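import Mathlib.GroupTheory.GroupAction.MultipleTransitivity
import Mathlib.GroupTheory.GroupAction.FixingSubgroup
import Mathlib.GroupTheory.Perm.Basic
import Mathlib.Algebra.Group.Subgroup.Basic
import Mathlib.Tactic

/-! Witt's lemma on transitive extensions. -/

set_option autoImplicit false
set_option linter.unusedSectionVars false

namespace Cfsg.Agent.PermGp.Witt

variable {X : Type*} [Group X]

/-- The double coset union `K ∪ K s K` is the subgroup generated by `K` and `s`. -/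
theorem mem_closure_double_coset (K : Subgroup X) (s : X) (hs2 : s * s ∈ K)
    (hKs : ∀ k ∈ K, s * k * s ∈ K ∨ ∃ a ∈ K, ∃ b ∈ K, s * k * s = a * s * b) :
    ∀ x ∈ Subgroup.closure ((K : Set X) ∪ {s}), x ∈ K ∨ ∃ a ∈ K, ∃ b ∈ K, x = a * s * b := by
  let U : Subgroup X :=
    { carrier := {x | x ∈ K ∨ ∃ a ∈ K, ∃ b ∈ K, x = a * s * b}
      one_mem' := Or.inl K.one_mem
      mul_mem' := by
        rintro x y (hx | ⟨a, ha, b, hb, rfl⟩) (hy | ⟨c, hc, d, hd, rfl⟩)
        · exact Or.inl (K.mul_mem hx hy)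
        · exact Or.inr ⟨x * c, K.mul_mem hx hc, d, hd, by simp only [mul_assoc]⟩
        · exact Or.inr ⟨a, ha, b * y, K.mul_mem hb hy, by simp only [mul_assoc]⟩
        · rcases hKs (b * c) (K.mul_mem hb hc) with h | ⟨e, he, f, hf, h⟩
          · refine Or.inl ?_
            rw [show a * s * b * (c * s * d) = a * (s * (b * c) * s) * d by simp only [mul_assoc]]
            exact K.mul_mem (K.mul_mem ha h) hd
          · refine Or.inr ⟨a * e, K.mul_mem ha he, f * d, K.mul_mem hf hd, ?_⟩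
            rw [show a * s * b * (c * s * d) = a * (s * (b * c) * s) * d by simp only [mul_assoc], h]
            simp only [mul_assoc]
      inv_mem' := by
        rintro x (hx | ⟨a, ha, b, hb, rfl⟩)
        · exact Or.inl (K.inv_mem hx)
        · exact Or.inr ⟨b⁻¹, K.inv_mem hb, (s * s)⁻¹ * a⁻¹, K.mul_mem (K.inv_mem hs2) (K.inv_mem ha), by group⟩ }
  intro x hx
  have hle : Subgroup.closure ((K : Set X) ∪ {s}) ≤ U := by
    rw [Subgroup.closure_le]
    rintro y (hy | rfl)
    · exact Or.inl hy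
    · exact Or.inr ⟨1, K.one_mem, 1, K.one_mem, by group⟩
  exact hle hx

variable {α : Type*} [Fintype α] [DecidableEq α]

/-- One step of the extension: `K` acts transitively off the fixed points with point stabiliser `P`
and rank two. -/
theorem step {K P : Subgroup (Equiv.Perm α)} {s s' : Equiv.Perm α} {u v : α}
    (hKv : ∀ k ∈ K, k v = v) (huv : u ≠ v) (hsu : s u = v) (hsv : s v = u) (hPK : P ≤ K)
    (hnorm : ∀ g ∈ P, s * g * s⁻¹ ∈ P)
    (hrank : ∀ k ∈ K, k ∈ P ∨ ∃ a ∈ P, ∃ b ∈ P, k = a * s' * b)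
    (hs' : s' ∈ K) (hs2 : s * s ∈ P) (hbraid : (s * s') * ((s * s') * (s * s')) ∈ P) :
    (∀ g ∈ Subgroup.closure ((K : Set (Equiv.Perm α)) ∪ {s}),
        g ∈ K ∨ ∃ a ∈ K, ∃ b ∈ K, g = a * s * b) ∧
      (∀ g ∈ Subgroup.closure ((K : Set (Equiv.Perm α)) ∪ {s}), g v = v → g ∈ K) := by
  have hKs : ∀ k ∈ K, s * k * s ∈ K ∨ ∃ a ∈ K, ∃ b ∈ K, s * k * s = a * s * b := by
    intro k hk
    rcases hrank k hk with h | ⟨a, ha, b, hb, rfl⟩
    · left
      rw [show s * k * s = (s * k * s⁻¹) * (s * s) by group]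
      exact hPK (P.mul_mem (hnorm k h) hs2)
    · right
      refine ⟨(s * a * s⁻¹) * ((s * s') * ((s * s') * (s * s'))) * s'⁻¹ * (s * s)⁻¹, ?_,
        s'⁻¹ * ((s * s)⁻¹ * (s * b * s⁻¹) * (s * s)), ?_, ?_⟩
      · exact K.mul_mem (K.mul_mem (K.mul_mem (hPK (hnorm a ha)) (hPK hbraid)) (K.inv_mem hs'))
          (K.inv_mem (hPK hs2))
      · exact K.mul_mem (K.inv_mem hs')
          (hPK (P.mul_mem (P.mul_mem (P.inv_mem hs2) (hnorm b hb)) hs2))
      · group
  refine ⟨mem_closure_double_coset K s (hPK hs2) hKs, fun g hg hgv => ?_⟩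
  rcases mem_closure_double_coset K s (hPK hs2) hKs g hg with h | ⟨a, ha, b, hb, rfl⟩
  · exact h
  exfalso
  rw [Equiv.Perm.mul_apply, Equiv.Perm.mul_apply, hKv b hb, hsv] at hgv
  exact huv (a.injective (hgv.trans (hKv a ha).symm))

end Cfsg.Agent.PermGp.Witt
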